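import Cfsg.Agent.H700.DM.Defs
import Cfsg.Agent.H264.CoverOver
import Cfsg.Agent.S2086
import Cfsg.Agent.S2087
import Cfsg.Agent.S2088
import Cfsg.Agent.S2089
import Cfsg.Agent.S2090
import Cfsg.Agent.S2091
import Cfsg.Agent.S2092
import Cfsg.Agent.S2093
import Cfsg.Agent.S2094
import Cfsg.Agent.S2095
import Cfsg.Agent.S2096
import Cfsg.Agent.S2097
import Cfsg.Agent.S2098
import Cfsg.Agent.S2099
import Cfsg.Agent.S2116
import Cfsg.Agent.S0892
import Cfsg.Agent.S0252
import Cfsg.Agent.S0254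
import Cfsg.Agent.S0256
import Cfsg.Agent.S0822

/-!
# S4907: the centres of the quasisimple groups with a classical central quotient (helper602)

* `center_cases` : `|Z(G)|` divides the order of the centre of the simply connected group or `G / Z(G)` is in the list `Exc`
  and `|Z(G)|` divides the number `excMul`
* `center_dvd_cl` : `p ∤ |Z(G)|` : `|Z(G)| ∣ dd Y (p ^ g)`
* `exc_list` : `p ∣ |Z(G)|` : the name of `G / Z(G)` is in the list
-/

set_option autoImplicit false

namespace Cfsg.Agent.H602.DM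

open Cfsg Subgroup
open Cfsg.Agent.H902 (Art.Sh)
open Cfsg.Agent.H902.Art (Sh)
open Cfsg.Agent.H902.Names (IsLie)
open Cfsg.Agent.H700.DM (IsCl)

universe u v w

section gen

variable {G : Type u} [Group G] {T : Type v} [Group T]

theorem ker_eq (e : (G ⧸ center G) ≃* T) :
    (e.toMonoidHom.comp (QuotientGroup.mk' (center G))).ker = center G := by
  ext x
  rw [MonoidHom.mem_ker, MonoidHom.comp_apply]
  change e _ = 1 ↔ _
  rw [map_eq_one_iff _ e.injective, QuotientGroup.mk'_apply, QuotientGroup.eq_one_iff]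

theorem center_dvd (hG : IsQuasisimple G) {A : Type w} [CommGroup A] (hA : HasSchurMultiplier T A)
    (e : (G ⧸ center G) ≃* T) : Nat.card (center G) ∣ Nat.card A := by
  have h := H264.CoverOver.card_ker_dvd hA hG.1.commutator_eq_top (e.toMonoidHom.comp (QuotientGroup.mk' (center G)))
    (e.surjective.comp (QuotientGroup.mk'_surjective _)) (by rw [ker_eq])
  rwa [ker_eq] at h

theorem center_dvd_cyclic (hG : IsQuasisimple G) {m : ℕ} (hA : HasCyclicSchurMultiplier T m)
    (e : (G ⧸ center G) ≃* T) : Nat.card (center G) ∣ m := by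
  have h := center_dvd hG hA e
  rwa [Nat.card_congr (Multiplicative.toAdd (α := ZMod m)), Nat.card_zmod] at h

theorem card_two (a b : ℕ) : Nat.card (Multiplicative (ZMod a × ZMod b)) = a * b := by
  rw [Nat.card_congr (Multiplicative.toAdd (α := ZMod a × ZMod b)), Nat.card_prod, Nat.card_zmod, Nat.card_zmod]

theorem card_three (a b c : ℕ) : Nat.card (Multiplicative (ZMod a × ZMod b × ZMod c)) = a * (b * c) := by
  rw [Nat.card_congr (Multiplicative.toAdd (α := ZMod a × ZMod b × ZMod c)), Nat.card_prod, Nat.card_prod,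
    Nat.card_zmod, Nat.card_zmod, Nat.card_zmod]

theorem center_dvd_alt [Finite G] (hG : IsQuasisimple G) {n : ℕ} (hn : 4 ≤ n) (h6 : n ≠ 6) (h7 : n ≠ 7)
    (e : (G ⧸ center G) ≃* alternatingGroup (Fin n)) : Nat.card (center G) ∣ 2 := by
  have h := Cfsg.Agent.S0892.result n hn h6 h7 (center G) le_rfl (by rw [hG.1.commutator_eq_top]; exact le_top) e
  have h1 : 0 < Nat.card (center G) := Nat.card_pos
  interval_cases Nat.card (center G)
  · exact one_dvd _
  · exact dvd_rfl

end gen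

/-- the exceptional names and the orders of their multipliers -/
def excl : List (OrdDiv.Grp × ℕ × ℕ) :=
  [(.psl 2 4, 2, 2), (.psl 2 9, 3, 6), (.psl 3 2, 2, 2), (.psl 3 4, 2, 48), (.psl 4 2, 2, 2), (.psu 4 2, 2, 2),
    (.psu 4 3, 3, 36), (.psu 6 2, 2, 12), (.psp 3 2, 2, 2), (.oodd 3 3, 3, 6), (.oplus 4 2, 2, 4)]

theorem pp_two {p f : ℕ} (hp : p.Prime) {k : ℕ} (h : p ^ f = 2 ^ k) (hk : k ≠ 0) : p = 2 := by
  have h1 : p ∣ 2 ^ k := by
    rw [← h]
    refine dvd_pow_self p ?_
    rintro rfl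
    rw [pow_zero] at h
    exact (Nat.one_lt_pow hk (by norm_num : 1 < 2)).ne h
  exact (Nat.prime_dvd_prime_iff_eq hp Nat.prime_two).1 (hp.dvd_of_dvd_pow h1)

theorem pp_three {p f : ℕ} (hp : p.Prime) {k : ℕ} (h : p ^ f = 3 ^ k) (hk : k ≠ 0) : p = 3 := by
  have h1 : p ∣ 3 ^ k := by
    rw [← h]
    refine dvd_pow_self p ?_
    rintro rfl
    rw [pow_zero] at h
    exact (Nat.one_lt_pow hk (by norm_num : 1 < 3)).ne h
  exact (Nat.prime_dvd_prime_iff_eq hp Nat.prime_three).1 (hp.dvd_of_dvd_pow h1)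

/-- **The centre of a quasisimple group with a classical central quotient.** -/
theorem center_cases {G : Type u} [Group G] [Finite G] (hG : IsQuasisimple G) {n : OrdDiv.Grp} {Y : Sh} {p g : ℕ}
    (hY : IsCl Y) (hn : IsLie n Y p g) (hr : OrdDiv.Real n (G ⧸ center G))
    (hc : H902.Art.Real Y p g (Nat.card (G ⧸ center G))) :
    Nat.card (center G) ∣ H902.Art.dd Y (p ^ g) ∨
      ∃ m k : ℕ, (n, p, m) ∈ excl ∧ m ∣ p ^ k * H902.Art.dd Y (p ^ g) ∧ Nat.card (center G) ∣ m := by
  have hp := hc.hp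
  have hok := hc.ok
  cases hn with
  | psl m =>
    obtain ⟨F, _, _, hF, ⟨e⟩⟩ := (show ∃ (F : Type) (_ : Field F) (_ : Fintype F), Fintype.card F = p ^ g ∧
      Nonempty ((G ⧸ center G) ≃* Matrix.ProjectiveSpecialLinearGroup (Fin m) F) from hr)
    obtain ⟨h2, h3⟩ := (show 2 ≤ m ∧ (m = 2 → 4 ≤ p ^ g) from hok)
    by_cases hexc : (m, p ^ g) ∈ ({(2, 4), (2, 9), (3, 2), (3, 4), (4, 2)} : Set (ℕ × ℕ))
    · right
      simp only [Set.mem_insert_iff, Set.mem_singleton_iff, Prod.mk.injEq] at hexc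
      rcases hexc with ⟨h4, h5⟩ | ⟨h4, h5⟩ | ⟨h4, h5⟩ | ⟨h4, h5⟩ | ⟨h4, h5⟩
      · subst h4
        have h6 := pp_two hp (k := 2) h5 (by norm_num)
        refine ⟨2, 1, by rw [h5, h6]; decide, by rw [h5, h6]; decide, ?_⟩
        obtain ⟨f⟩ := Cfsg.Agent.S0252.result (F := F) (by rw [hF, h5])
        exact center_dvd_alt hG (by norm_num) (by norm_num) (by norm_num) (e.trans f)
      · subst h4
        have h6 := pp_three hp (k := 2) h5 (by norm_num)
        refine ⟨6, 1, by rw [h5, h6]; decide, by rw [h5, h6]; decide, ?_⟩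
        obtain ⟨f⟩ := Cfsg.Agent.S0254.result (F := F) (by rw [hF, h5])
        exact center_dvd_cyclic hG (Cfsg.Agent.S2116.result 6 (Or.inl rfl)) (e.trans f)
      · subst h4
        have h6 := pp_two hp (k := 1) h5 (by norm_num)
        refine ⟨2, 1, by rw [h5, h6]; decide, by rw [h5, h6]; decide, ?_⟩
        exact center_dvd_cyclic hG (Cfsg.Agent.S2087.result (F := F) (by rw [hF, h5])) e
      · subst h4
        have h6 := pp_two hp (k := 2) h5 (by norm_num)
        refine ⟨48, 4, by rw [h5, h6]; decide, by rw [h5, h6]; decide, ?_⟩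
        have h7 := center_dvd hG (Cfsg.Agent.S2088.result (F := F) (by rw [hF, h5])) e
        rwa [card_three] at h7
      · subst h4
        have h6 := pp_two hp (k := 1) h5 (by norm_num)
        refine ⟨2, 1, by rw [h5, h6]; decide, by rw [h5, h6]; decide, ?_⟩
        obtain ⟨f⟩ := Cfsg.Agent.S0256.result (F := F) (by rw [hF, h5])
        exact center_dvd_alt hG (by norm_num) (by norm_num) (by norm_num) (e.trans f)
    · left
      exact center_dvd_cyclic hG (Cfsg.Agent.S2086.result hF m h2 h3 hexc) e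
  | psp m =>
    obtain ⟨F, _, _, hF, ⟨e⟩⟩ := (show ∃ (F : Type) (_ : Field F) (_ : Fintype F), Fintype.card F = p ^ g ∧
      Nonempty ((G ⧸ center G) ≃* PSp m F) from hr)
    obtain ⟨h2, h3⟩ := (show 2 ≤ m ∧ (m = 2 → 3 ≤ p ^ g) from hok)
    by_cases hexc : m = 3 ∧ p ^ g = 2
    · right
      obtain ⟨h4, h5⟩ := hexc
      subst h4
      have h6 := pp_two hp (k := 1) h5 (by norm_num)
      refine ⟨2, 1, by rw [h5, h6]; decide, by rw [h5, h6]; decide, ?_⟩
      exact center_dvd_cyclic hG (Cfsg.Agent.S2093.result (F := F) (by rw [hF, h5])) e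
    · left
      exact center_dvd_cyclic hG (Cfsg.Agent.S2092.result hF m h2 h3 hexc) e
  | oodd m _ _ hn ho =>
    obtain ⟨F, _, _, hF, ⟨e⟩⟩ := (show ∃ (F : Type) (_ : Field F) (_ : Fintype F), Fintype.card F = p ^ g ∧
      Nonempty ((G ⧸ center G) ≃* POmega F (quadFormOdd m F)) from hr)
    by_cases hexc : m = 3 ∧ p ^ g = 3
    · right
      obtain ⟨h4, h5⟩ := hexc
      subst h4
      have h6 := pp_three hp (k := 1) h5 (by norm_num)
      refine ⟨6, 1, by rw [h5, h6]; decide, by rw [h5, h6]; decide, ?_⟩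
      exact center_dvd_cyclic hG (Cfsg.Agent.S2095.result (F := F) (by rw [hF, h5])) e
    · left
      refine (center_dvd_cyclic hG (Cfsg.Agent.S2094.result hF ho m hn hexc) e).trans ?_
      have h1 : 1 ≤ p ^ g := Nat.one_le_pow _ _ hp.pos
      obtain ⟨k, hk⟩ := ho
      exact Nat.dvd_gcd dvd_rfl ⟨k, by omega⟩
  | psu m =>
    obtain ⟨F, _, _, hF, ⟨e⟩⟩ := (show ∃ (F : Type) (_ : Field F) (_ : Fintype F), Fintype.card F = (p ^ g) ^ 2 ∧
      Nonempty ((G ⧸ center G) ≃* PSU m F (p ^ g)) from hr)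
    obtain ⟨h2, h3⟩ := (show 3 ≤ m ∧ (m = 3 → 3 ≤ p ^ g) from hok)
    have h3' : ¬ (m = 3 ∧ p ^ g = 2) := fun h => by have := h3 h.1; omega
    by_cases hexc : (m, p ^ g) ∈ ({(4, 2), (4, 3), (6, 2)} : Set (ℕ × ℕ))
    · right
      simp only [Set.mem_insert_iff, Set.mem_singleton_iff, Prod.mk.injEq] at hexc
      rcases hexc with ⟨h4, h5⟩ | ⟨h4, h5⟩ | ⟨h4, h5⟩
      · subst h4
        have h6 := pp_two hp (k := 1) h5 (by norm_num)
        refine ⟨2, 1, by rw [h5, h6]; decide, by rw [h5, h6]; decide, ?_⟩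
        rw [h5] at e hF
        have h3p : Fact (Nat.Prime 3) := ⟨Nat.prime_three⟩
        obtain ⟨f⟩ := Cfsg.Agent.S0822.result (F := F) (K := ZMod 3) (by rw [hF]; norm_num) (ZMod.card 3)
        have h7 := center_dvd_cyclic hG (Cfsg.Agent.S2092.result (F := ZMod 3) (ZMod.card 3) 2 le_rfl (by norm_num)
          (by norm_num)) (e.trans f)
        exact h7.trans (by norm_num)
      · subst h4
        have h6 := pp_three hp (k := 1) h5 (by norm_num)
        refine ⟨36, 2, by rw [h5, h6]; decide, by rw [h5, h6]; decide, ?_⟩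
        rw [h5] at e hF
        have h7 := center_dvd hG (Cfsg.Agent.S2090.result (F := F) (by rw [hF]; norm_num)) e
        rwa [card_three] at h7
      · subst h4
        have h6 := pp_two hp (k := 1) h5 (by norm_num)
        refine ⟨12, 2, by rw [h5, h6]; decide, by rw [h5, h6]; decide, ?_⟩
        rw [h5] at e hF
        have h7 := center_dvd hG (Cfsg.Agent.S2091.result (F := F) (by rw [hF]; norm_num)) e
        rwa [card_three] at h7
    · left
      exact center_dvd_cyclic hG (Cfsg.Agent.S2089.result m (p ^ g) hF h2 h3' hexc) e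
  | oplus m =>
    obtain ⟨F, _, _, hF, ⟨e⟩⟩ := (show ∃ (F : Type) (_ : Field F) (_ : Fintype F), Fintype.card F = p ^ g ∧
      Nonempty ((G ⧸ center G) ≃* POmega F (quadFormPlus m F)) from hr)
    have h4 : 4 ≤ m := hok
    rcases Nat.even_or_odd m with hm | hm
    · by_cases hexc : m = 4 ∧ p ^ g = 2
      · right
        obtain ⟨h4, h5⟩ := hexc
        subst h4
        have h6 := pp_two hp (k := 1) h5 (by norm_num)
        refine ⟨4, 2, by rw [h5, h6]; decide, by rw [h5, h6]; decide, ?_⟩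
        have h7 := center_dvd hG (Cfsg.Agent.S2098.result (F := F) (by rw [hF, h5])) e
        rwa [card_two] at h7
      · left
        have h7 := center_dvd hG (Cfsg.Agent.S2097.result hF m h4 hm hexc) e
        rw [card_two] at h7
        refine h7.trans ?_
        change _ ∣ Nat.gcd 4 ((p ^ g) ^ m - 1)
        obtain ⟨k, rfl⟩ := hm
        set q := p ^ g with hq
        rcases Nat.even_or_odd q with h8 | h8
        · have h9 : Nat.gcd 2 (q ^ (k + k) - 1) = 1 := by
            have h10 : ¬ 2 ∣ q ^ (k + k) - 1 := by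
              have h11 : 2 ∣ q ^ (k + k) := dvd_pow (even_iff_two_dvd.1 h8) (by omega)
              have h12 : 0 < q ^ (k + k) := Nat.pos_of_ne_zero (pow_ne_zero _ (by rw [hq]; exact pow_ne_zero _ hp.ne_zero))
              omega
            exact (Nat.Prime.coprime_iff_not_dvd Nat.prime_two).2 h10
          rw [h9]
          exact one_dvd _
        · refine Nat.dvd_gcd ?_ ?_
          · exact Nat.mul_dvd_mul (Nat.gcd_dvd_left _ _) (Nat.gcd_dvd_left _ _)
          · refine (show Nat.gcd 2 (q ^ (k + k) - 1) * Nat.gcd 2 (q ^ (k + k) - 1) ∣ 2 * 2 from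
              Nat.mul_dvd_mul (Nat.gcd_dvd_left _ _) (Nat.gcd_dvd_left _ _)).trans ?_
            have h9 : q ^ (k + k) - 1 = (q ^ k - 1) * (q ^ k + 1) := by
              have h10 := Nat.mul_self_sub_mul_self_eq (q ^ k) 1
              rw [mul_one] at h10
              rw [pow_add, h10, mul_comm]
            rw [h9]
            obtain ⟨j, hj⟩ : Odd (q ^ k) := h8.pow
            exact Nat.mul_dvd_mul ⟨j, by omega⟩ ⟨j + 1, by omega⟩
    · left
      exact center_dvd_cyclic hG (Cfsg.Agent.S2096.result hF m (by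
        obtain ⟨k, hk⟩ := hm
        omega) hm) e
  | ominus m =>
    obtain ⟨F, _, _, a, b, hF, hab, ⟨e⟩⟩ := (show ∃ (F : Type) (_ : Field F) (_ : Fintype F) (a b : F),
      Fintype.card F = p ^ g ∧
      (∀ z₁ z₂ : F, z₁ ^ 2 + a * z₁ * z₂ + b * z₂ ^ 2 = 0 → z₁ = 0 ∧ z₂ = 0) ∧
      Nonempty ((G ⧸ center G) ≃* POmega F (quadFormMinus (m - 1) F a b)) from hr)
    left
    exact center_dvd_cyclic hG (Cfsg.Agent.S2099.result hF m hok a b hab) e
  | _ => exact hY.elim

theorem not_dvd_dd {Y : Sh} {p g : ℕ} (hp : p.Prime) (hg : 1 ≤ g) (hY : IsCl Y) (hok : H902.Art.Ok Y p g) :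
    ¬ p ∣ H902.Art.dd Y (p ^ g) := by
  have hpq : p ∣ p ^ g := dvd_pow_self p (by omega)
  have hq : 1 ≤ p ^ g := Nat.one_le_pow _ _ hp.pos
  have key1 : ∀ {a b : ℕ}, p ∣ a → 1 ≤ a → ¬ p ∣ Nat.gcd b (a - 1) := by
    intro a b ha h1 h
    have h2 := (Nat.dvd_sub ha (h.trans (Nat.gcd_dvd_right _ _)))
    rw [show a - (a - 1) = 1 by omega] at h2
    exact hp.one_lt.ne' (Nat.dvd_one.1 h2)
  have key2 : ∀ {a b : ℕ}, p ∣ a → ¬ p ∣ Nat.gcd b (a + 1) := by
    intro a b ha h
    have h2 := (Nat.dvd_sub (h.trans (Nat.gcd_dvd_right _ _)) ha)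
    rw [show a + 1 - a = 1 by omega] at h2
    exact hp.one_lt.ne' (Nat.dvd_one.1 h2)
  cases Y with
  | L n => exact key1 hpq hq
  | C n => exact key1 hpq hq
  | U n => exact key2 hpq
  | D n =>
    have h4 : 4 ≤ n := hok
    exact key1 (dvd_pow hpq (by omega)) (Nat.one_le_pow _ _ hq)
  | DD n =>
    have h4 : 4 ≤ n := hok
    exact key2 (dvd_pow hpq (by omega))
  | _ => exact hY.elim

/-- **the list of the exceptional covers** -/
theorem exc_list {G : Type u} [Group G] [Finite G] (hG : IsQuasisimple G) {n : OrdDiv.Grp} {Y : Sh} {p g : ℕ}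
    (hY : IsCl Y) (hn : IsLie n Y p g) (hr : OrdDiv.Real n (G ⧸ center G))
    (hc : H902.Art.Real Y p g (Nat.card (G ⧸ center G))) (hp : p ∣ Nat.card (center G)) :
    ∃ m : ℕ, (n, p, m) ∈ excl ∧ Nat.card (center G) ∣ m := by
  rcases center_cases hG hY hn hr hc with h | ⟨m, k, h1, h2, h3⟩
  · exact absurd (hp.trans h) (not_dvd_dd hc.hp hc.hf hY hc.ok)
  · exact ⟨m, h1, h3⟩

/-- **the centre of a `p'`-cover** -/
theorem center_dvd_cl {G : Type u} [Group G] [Finite G] (hG : IsQuasisimple G) {n : OrdDiv.Grp} {Y : Sh} {p g : ℕ}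
    (hY : IsCl Y) (hn : IsLie n Y p g) (hr : OrdDiv.Real n (G ⧸ center G))
    (hc : H902.Art.Real Y p g (Nat.card (G ⧸ center G))) (hp : ¬ p ∣ Nat.card (center G)) :
    Nat.card (center G) ∣ H902.Art.dd Y (p ^ g) := by
  rcases center_cases hG hY hn hr hc with h | ⟨m, k, hm, h1, h⟩
  · exact h
  · refine Nat.Coprime.dvd_of_dvd_mul_left ?_ (h.trans h1)
    exact (Nat.Coprime.pow_left k ((Nat.Prime.coprime_iff_not_dvd hc.hp).2 hp)).symm

end Cfsg.Agent.H602.DM
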